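import Mathlib

/-! A ring isomorphism of adic completions from isomorphisms at each level. -/

namespace Groth.Agent.SectionComplLib

open AdicCompletion

universe u v

variable {C : Type u} [CommRing C] {B : Type v} [CommRing B] (J : Ideal C) (K : Ideal B) (φ : C →+* B)

theorem evalₐ_compat {m n : ℕ} (h : m ≤ n) (x : AdicCompletion J C) :
    Ideal.Quotient.factor (Ideal.pow_le_pow_right h) (evalₐ J n x) = evalₐ J m x := by
  obtain ⟨s, rfl⟩ := AdicCompletion.mk_surjective J C x
  rw [evalₐ_mk, evalₐ_mk, Ideal.Quotient.factor_mk, Ideal.Quotient.eq]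
  have h1 := (SModEq.sub_mem.1 (s.property h))
  rw [smul_eq_mul, Ideal.mul_top] at h1
  simpa using neg_mem h1

theorem exists_completionEquiv (hle : ∀ n, J ^ n ≤ (K ^ n).comap φ)
    (hbij : ∀ n, Function.Bijective (Ideal.quotientMap (K ^ n) φ (hle n))) :
    ∃ e : AdicCompletion J C ≃+* AdicCompletion K B,
      ∀ c, e (algebraMap C _ c) = algebraMap B _ (φ c) := by
  let qe : ∀ n, C ⧸ J ^ n ≃+* B ⧸ K ^ n := fun n => RingEquiv.ofBijective _ (hbij n)
  have hq : ∀ {m n : ℕ} (h : m ≤ n) (x : C ⧸ J ^ n),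
      Ideal.Quotient.factor (Ideal.pow_le_pow_right h) (qe n x) =
        qe m (Ideal.Quotient.factor (Ideal.pow_le_pow_right h) x) := by
    intro m n h x
    obtain ⟨c, rfl⟩ := Ideal.Quotient.mk_surjective x
    rfl
  let f : ∀ n, AdicCompletion J C →+* B ⧸ K ^ n := fun n => (qe n).toRingHom.comp (evalₐ J n).toRingHom
  let g : ∀ n, AdicCompletion K B →+* C ⧸ J ^ n := fun n => (qe n).symm.toRingHom.comp (evalₐ K n).toRingHom
  have hf : ∀ {m n : ℕ} (h : m ≤ n), (Ideal.Quotient.factorPow K h).comp (f n) = f m := fun {m n} h =>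
    RingHom.ext fun x => by
      show Ideal.Quotient.factor (Ideal.pow_le_pow_right h) (qe n (evalₐ J n x)) = qe m (evalₐ J m x)
      rw [hq h, evalₐ_compat J h]
  have hg : ∀ {m n : ℕ} (h : m ≤ n), (Ideal.Quotient.factorPow J h).comp (g n) = g m := fun {m n} h =>
    RingHom.ext fun x => by
      show Ideal.Quotient.factor (Ideal.pow_le_pow_right h) ((qe n).symm (evalₐ K n x)) = (qe m).symm (evalₐ K m x)
      apply (qe m).injective
      rw [← hq h, RingEquiv.apply_symm_apply, RingEquiv.apply_symm_apply, evalₐ_compat K h]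
  let F := AdicCompletion.liftRingHom K f hf
  let G := AdicCompletion.liftRingHom J g hg
  have hF : ∀ n x, evalₐ K n (F x) = qe n (evalₐ J n x) := fun n x => evalₐ_liftRingHom K f hf n x
  have hG : ∀ n x, evalₐ J n (G x) = (qe n).symm (evalₐ K n x) := fun n x => evalₐ_liftRingHom J g hg n x
  refine ⟨RingEquiv.ofRingHom F G (RingHom.ext fun x => ext_evalₐ fun n => ?_)
    (RingHom.ext fun x => ext_evalₐ fun n => ?_), fun c => ext_evalₐ fun n => ?_⟩
  · show evalₐ K n (F (G x)) = evalₐ K n x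
    rw [hF, hG, RingEquiv.apply_symm_apply]
  · show evalₐ J n (G (F x)) = evalₐ J n x
    rw [hG, hF, RingEquiv.symm_apply_apply]
  · show evalₐ K n (F _) = _
    rw [hF, AlgHom.commutes, AlgHom.commutes]
    rfl

end Groth.Agent.SectionComplLib
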